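import Groth.Agent.ProjMorph.Sections
import Groth.Agent.CVar22.LinearEmb
import Mathlib.LinearAlgebra.Matrix.GeneralLinearGroup.Defs
import Mathlib.LinearAlgebra.Matrix.ToLinearEquiv

/-!
# Linear automorphisms of projective space
-/

set_option autoImplicit false
set_option linter.style.haveILetI false
set_option linter.unusedSimpArgs false

universe u

open CategoryTheory AlgebraicGeometry MvPolynomial TopologicalSpace
open scoped HomogeneousIdeal
open HomogeneousLocalization

noncomputable section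

namespace Groth.Agent.PGLAut28

open Groth.Agent.ProjMorph Groth.Agent.ProjTwist Groth.Agent.QCoh Groth.Agent.Props.GenLocus Groth.Agent.AmpleLib Groth.Agent.Props.ProjFrame Twist

variable {k : Type u} [Field k] {n : ℕ}

local notation "𝒜" => CohB1.polyGrading n k

theorem X_mem' (i : Fin (n + 1)) : (X i : MvPolynomial (Fin (n + 1)) k) ∈ CohB1.polyGrading n k 1 :=
  isHomogeneous_X k i

/-- The linear forms of the rows of a matrix. -/
def lin (g : Matrix (Fin (n + 1)) (Fin (n + 1)) k) (i : Fin (n + 1)) : MvPolynomial (Fin (n + 1)) k :=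
  ∑ j, C (g i j) * X j

theorem lin_mem (g : Matrix (Fin (n + 1)) (Fin (n + 1)) k) (i : Fin (n + 1)) :
    lin g i ∈ CohB1.polyGrading n k 1 :=
  IsHomogeneous.sum _ _ _ fun j _ => isHomogeneous_C_mul_X (g i j) j

/-- The linear substitution. -/
def sub (g : Matrix (Fin (n + 1)) (Fin (n + 1)) k) : CohB1.polyGrading n k →+*ᵍ CohB1.polyGrading n k where
  __ := (aeval (lin g) : MvPolynomial (Fin (n + 1)) k →ₐ[k] MvPolynomial (Fin (n + 1)) k).toRingHom
  map_mem := by
    intro d p hp
    show aeval (lin g) p ∈ homogeneousSubmodule _ k d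
    rw [mem_homogeneousSubmodule] at hp ⊢
    have h := hp.aeval (S := k) (τ := Fin (n + 1)) (n := 1) (lin g) (lin_mem g)
    rwa [one_mul] at h

theorem sub_apply (g : Matrix (Fin (n + 1)) (Fin (n + 1)) k) (p : MvPolynomial (Fin (n + 1)) k) :
    sub g p = aeval (lin g) p := rfl

theorem sub_X (g : Matrix (Fin (n + 1)) (Fin (n + 1)) k) (i : Fin (n + 1)) : sub g (X i) = lin g i := by
  rw [sub_apply, aeval_X]

theorem lin_one (i : Fin (n + 1)) : lin (1 : Matrix (Fin (n + 1)) (Fin (n + 1)) k) i = X i := by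
  simp [lin, Matrix.one_apply]

theorem sub_lin (g h : Matrix (Fin (n + 1)) (Fin (n + 1)) k) (i : Fin (n + 1)) :
    aeval (lin g) (lin h i) = lin (h * g) i := by
  simp only [lin, map_sum, map_mul, aeval_C, aeval_X, algebraMap_eq, Finset.mul_sum, Matrix.mul_apply,
    Finset.sum_mul]
  rw [Finset.sum_comm]
  exact Finset.sum_congr rfl fun j _ => Finset.sum_congr rfl fun l _ => by ring

theorem sub_sub (g h : Matrix (Fin (n + 1)) (Fin (n + 1)) k) (p : MvPolynomial (Fin (n + 1)) k) :
    sub g (sub h p) = sub (h * g) p := by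
  simp only [sub_apply]
  rw [← AlgHom.comp_apply]
  congr 1
  exact algHom_ext fun i => by rw [AlgHom.comp_apply, aeval_X, aeval_X, sub_lin]

theorem sub_one (p : MvPolynomial (Fin (n + 1)) k) :
    sub (1 : Matrix (Fin (n + 1)) (Fin (n + 1)) k) p = p := by
  rw [sub_apply, show lin (1 : Matrix (Fin (n + 1)) (Fin (n + 1)) k) = X from funext lin_one, aeval_X_left_apply]

theorem irr (g : (Matrix (Fin (n + 1)) (Fin (n + 1)) k)ˣ) :
    (CohB1.polyGrading n k)₊ ≤ (CohB1.polyGrading n k)₊.map (sub (g : Matrix (Fin (n + 1)) (Fin (n + 1)) k)) := by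
  rw [HomogeneousIdeal.irrelevant_le]
  intro i hi b hb
  change b ∈ Ideal.map (sub (g : Matrix (Fin (n + 1)) (Fin (n + 1)) k))
    (HomogeneousIdeal.irrelevant (CohB1.polyGrading n k)).toIdeal
  have h : sub (g : Matrix (Fin (n + 1)) (Fin (n + 1)) k)
      (sub (↑g⁻¹ : Matrix (Fin (n + 1)) (Fin (n + 1)) k) b) = b := by
    rw [sub_sub, Units.inv_mul, sub_one]
  rw [← h]
  exact Ideal.mem_map_of_mem _ (HomogeneousIdeal.mem_irrelevant_of_mem _ hi ((sub _).2 hb))

/-- The linear automorphism. -/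
def lmap (g : (Matrix (Fin (n + 1)) (Fin (n + 1)) k)ˣ) : CohB1.ProjSpace n k ⟶ CohB1.ProjSpace n k :=
  Proj.map (sub (g : Matrix (Fin (n + 1)) (Fin (n + 1)) k)) (irr g)

theorem map_congr {f f' : CohB1.polyGrading n k →+*ᵍ CohB1.polyGrading n k}
    (hf : (CohB1.polyGrading n k)₊ ≤ (CohB1.polyGrading n k)₊.map f)
    (hf' : (CohB1.polyGrading n k)₊ ≤ (CohB1.polyGrading n k)₊.map f') (h : f = f') :
    Proj.map f hf = Proj.map f' hf' := by
  subst h; rfl

theorem lmap_one : lmap (1 : (Matrix (Fin (n + 1)) (Fin (n + 1)) k)ˣ) = 𝟙 _ :=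
  (map_congr _ (by simp) (GradedRingHom.ext fun p => sub_one p)).trans Proj.map_id

theorem lmap_mul (g h : (Matrix (Fin (n + 1)) (Fin (n + 1)) k)ˣ) :
    lmap (h * g) = lmap g ≫ lmap h := by
  refine Eq.trans ?_ (Proj.map_comp _ _ (irr h) (irr g))
  exact map_congr _ _ (GradedRingHom.ext fun p => (sub_sub _ _ p).symm)

theorem lmap_toSpec (g : (Matrix (Fin (n + 1)) (Fin (n + 1)) k)ˣ) :
    lmap g ≫ CohB1.ProjSpace.toSpec n k = CohB1.ProjSpace.toSpec n k := by
  have h := RelProjLib.map_toSpecZero (sub (g : Matrix (Fin (n + 1)) (Fin (n + 1)) k)) (irr g)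
  have h2 : (RelProjLib.zeroHom (sub (g : Matrix (Fin (n + 1)) (Fin (n + 1)) k))).comp
      (algebraMap k (CohB1.polyGrading n k 0)) = algebraMap k (CohB1.polyGrading n k 0) := by
    ext r : 2
    exact aeval_C _ r
  show Proj.map _ _ ≫ Proj.toSpecZero _ ≫ _ = Proj.toSpecZero _ ≫ _
  rw [reassoc_of% h, ← Spec.map_comp, ← CommRingCat.ofHom_comp, h2]

/-- The action of the general linear group. -/
def act : Matrix.GeneralLinearGroup (Fin (n + 1)) k →* Aut (Over.mk (CohB1.ProjSpace.toSpec n k)) where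
  toFun g := Over.isoMk
    { hom := lmap g
      inv := lmap g⁻¹
      hom_inv_id := by rw [← lmap_mul, inv_mul_cancel, lmap_one]; rfl
      inv_hom_id := by rw [← lmap_mul, mul_inv_cancel, lmap_one]; rfl } (lmap_toSpec g)
  map_one' := by
    refine Iso.ext (Over.OverMorphism.ext ?_)
    exact lmap_one
  map_mul' g h := by
    refine Iso.ext (Over.OverMorphism.ext ?_)
    exact lmap_mul h g

theorem act_hom_left (g : Matrix.GeneralLinearGroup (Fin (n + 1)) k) : (act g).hom.left = lmap g := rfl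

/-- The value of a linear automorphism on a ratio of coordinates. -/
theorem lmap_ratio (g : (Matrix (Fin (n + 1)) (Fin (n + 1)) k)ˣ) {a b : MvPolynomial (Fin (n + 1)) k}
    (ha : a ∈ CohB1.polyGrading n k 1) (hb : b ∈ CohB1.polyGrading n k 1) :
    (lmap g).appLE (Proj.basicOpen (CohB1.polyGrading n k) a)
        (Proj.basicOpen (CohB1.polyGrading n k) (sub (g : Matrix (Fin (n + 1)) (Fin (n + 1)) k) a)) (by rfl)
        (ratio ha hb) =
      ratio ((sub (g : Matrix (Fin (n + 1)) (Fin (n + 1)) k)).2 ha) ((sub (g : Matrix (Fin (n + 1)) (Fin (n + 1)) k)).2 hb) := by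
  rw [← awayToSection_mk_one ha hb (by rw [smul_eq_mul, one_mul]; exact hb)]
  refine (ConcreteCategory.congr_hom (Proj.awayToSection_comp_appLE _ (irr g) ha) _).trans ?_
  rw [← awayToSection_mk_one ((sub (g : Matrix (Fin (n + 1)) (Fin (n + 1)) k)).2 ha)
    ((sub (g : Matrix (Fin (n + 1)) (Fin (n + 1)) k)).2 hb)
    (by rw [smul_eq_mul, one_mul]; exact (sub _).2 hb)]
  simp only [CommRingCat.hom_comp, RingHom.coe_comp, Function.comp_apply, CommRingCat.hom_ofHom, Away.map_mk]
  rfl

/-- Restriction of a line: the substitution `X i ↦ v i * T`. -/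
def line (v : Fin (n + 1) → k) : MvPolynomial (Fin (n + 1)) k →ₐ[k] MvPolynomial (Fin 1) k :=
  aeval fun i => C (v i) * X 0

theorem isHomogeneous_ker_line (v : Fin (n + 1) → k) :
    (RingHom.ker (line v).toRingHom).IsHomogeneous (CohB1.polyGrading n k) := by
  classical
  intro d p hp
  have hmem : ∀ (e : ℕ) (q : MvPolynomial (Fin (n + 1)) k), q.IsHomogeneous e → (line v q).IsHomogeneous e := by
    intro e q hq
    have h := hq.aeval (S := k) (τ := Fin 1) (n := 1) (fun i => C (v i) * X 0)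
      (fun i => isHomogeneous_C_mul_X (v i) 0)
    rwa [one_mul] at h
  rw [show ((DirectSum.decompose (CohB1.polyGrading n k) p d : CohB1.polyGrading n k d) : MvPolynomial _ k) =
      homogeneousComponent d p from MvPolynomial.decomposition.decompose'_apply p d]
  rw [RingHom.mem_ker] at hp ⊢
  show line v (homogeneousComponent d p) = 0
  have hp' : line v p = 0 := hp
  rw [← sum_homogeneousComponent p, map_sum] at hp'
  have h := congrArg (homogeneousComponent d) hp'
  rw [map_sum, map_zero] at h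
  by_cases hd : d ∈ Finset.range (p.totalDegree + 1)
  · rw [Finset.sum_eq_single_of_mem d hd (fun e _ he => by
      rw [homogeneousComponent_of_mem (hmem e _ (homogeneousComponent_isHomogeneous e p)), if_neg he.symm]),
      homogeneousComponent_of_mem (hmem d _ (homogeneousComponent_isHomogeneous d p)), if_pos rfl] at h
    exact h
  · rw [homogeneousComponent_eq_zero d p (by
      rw [Finset.mem_range] at hd
      omega), map_zero]

/-- The point of projective space of a nonzero vector. -/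
def pt (v : Fin (n + 1) → k) (hv : v ≠ 0) : ProjectiveSpectrum (CohB1.polyGrading n k) where
  asHomogeneousIdeal := ⟨RingHom.ker (line v).toRingHom, isHomogeneous_ker_line v⟩
  isPrime := RingHom.ker_isPrime _
  not_irrelevant_le le := hv (funext fun i => by
    have h : line v (X i) = 0 := le (HomogeneousIdeal.mem_irrelevant_of_mem _ one_pos (X_mem' i))
    rw [line, aeval_X] at h
    exact C_eq_zero.mp ((mul_eq_zero.mp h).resolve_right (X_ne_zero 0)))

theorem line_lin (g : Matrix (Fin (n + 1)) (Fin (n + 1)) k) (v : Fin (n + 1) → k) (i : Fin (n + 1)) :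
    line v (lin g i) = C (g.mulVec v i) * X 0 := by
  simp only [lin, line, map_sum, map_mul, aeval_C, aeval_X, algebraMap_eq, Matrix.mulVec, dotProduct,
    Finset.sum_mul]
  exact Finset.sum_congr rfl fun j _ => by ring

theorem mem_pt {v : Fin (n + 1) → k} {hv : v ≠ 0} {p : MvPolynomial (Fin (n + 1)) k} :
    p ∈ (pt v hv).asHomogeneousIdeal ↔ line v p = 0 := Iff.rfl

theorem lmap_pt (g : (Matrix (Fin (n + 1)) (Fin (n + 1)) k)ˣ) (v : Fin (n + 1) → k) (hv : v ≠ 0)
    (hw : (g : Matrix (Fin (n + 1)) (Fin (n + 1)) k).mulVec v ≠ 0) :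
    (lmap g).base (show CohB1.ProjSpace n k from pt v hv) =
      (show CohB1.ProjSpace n k from pt ((g : Matrix (Fin (n + 1)) (Fin (n + 1)) k).mulVec v) hw) := by
  refine ProjectiveSpectrum.ext (HomogeneousIdeal.ext (Ideal.ext fun p => ?_))
  show line v (sub (g : Matrix (Fin (n + 1)) (Fin (n + 1)) k) p) = 0 ↔
    line ((g : Matrix (Fin (n + 1)) (Fin (n + 1)) k).mulVec v) p = 0
  rw [sub_apply, ← AlgHom.comp_apply]
  rw [show (line v).comp (aeval (lin (g : Matrix (Fin (n + 1)) (Fin (n + 1)) k))) =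
      line ((g : Matrix (Fin (n + 1)) (Fin (n + 1)) k).mulVec v) from algHom_ext fun i => by
    rw [AlgHom.comp_apply, aeval_X, line_lin, line, aeval_X]]

theorem pt_eq {v w : Fin (n + 1) → k} (hv : v ≠ 0) (hw : w ≠ 0) (h : pt v hv = pt w hw) (i j : Fin (n + 1)) :
    v j * w i = v i * w j := by
  have h1 : (C (v j) * X i - C (v i) * X j : MvPolynomial (Fin (n + 1)) k) ∈ (pt v hv).asHomogeneousIdeal := by
    rw [mem_pt]
    simp only [line, map_sub, map_mul, aeval_C, aeval_X, algebraMap_eq]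
    ring
  rw [h, mem_pt] at h1
  simp only [line, map_sub, map_mul, aeval_C, aeval_X, algebraMap_eq] at h1
  rw [← mul_assoc, ← mul_assoc, ← map_mul, ← map_mul, ← sub_mul, ← map_sub, mul_eq_zero] at h1
  exact sub_eq_zero.mp (C_eq_zero.mp (h1.resolve_right (X_ne_zero 0)))

/-- A matrix fixing all points is scalar. -/
theorem eq_scalar_of_lmap_eq_id (g : (Matrix (Fin (n + 1)) (Fin (n + 1)) k)ˣ) (h : lmap g = 𝟙 _) :
    (g : Matrix (Fin (n + 1)) (Fin (n + 1)) k) =
      Matrix.scalar (Fin (n + 1)) ((g : Matrix (Fin (n + 1)) (Fin (n + 1)) k) 0 0) := by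
  classical
  have key : ∀ (v : Fin (n + 1) → k), v ≠ 0 → ∀ i j,
      (g : Matrix (Fin (n + 1)) (Fin (n + 1)) k).mulVec v j * v i =
        (g : Matrix (Fin (n + 1)) (Fin (n + 1)) k).mulVec v i * v j := by
    intro v hv i j
    have hw : (g : Matrix (Fin (n + 1)) (Fin (n + 1)) k).mulVec v ≠ 0 := fun h0 => hv (by
      have h2 := congrArg (fun w => (↑g⁻¹ : Matrix (Fin (n + 1)) (Fin (n + 1)) k).mulVec w) h0
      simpa [Matrix.mulVec_mulVec] using h2)
    have h1 := lmap_pt g v hv hw
    rw [h] at h1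
    exact pt_eq hw hv h1.symm i j
  have hne : ∀ i : Fin (n + 1), (Pi.single i 1 : Fin (n + 1) → k) ≠ 0 := fun i h0 => by
    simpa using congrFun h0 i
  have hoff : ∀ i j, i ≠ j → (g : Matrix (Fin (n + 1)) (Fin (n + 1)) k) j i = 0 := fun i j hij => by
    simpa [Pi.single_apply, hij.symm] using key _ (hne i) i j
  have hdiag : ∀ i, (g : Matrix (Fin (n + 1)) (Fin (n + 1)) k) i i = (g : Matrix (Fin (n + 1)) (Fin (n + 1)) k) 0 0 := by
    intro i
    rcases eq_or_ne i 0 with rfl | hi
    · rfl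
    have hs : (Pi.single i 1 + Pi.single 0 1 : Fin (n + 1) → k) ≠ 0 := fun h0 => by
      simpa [Pi.single_apply, hi] using congrFun h0 i
    have h2 := key _ hs i 0
    simp [Matrix.mulVec_add, Pi.single_apply, hi, hi.symm, hoff i 0 hi, hoff 0 i hi.symm] at h2
    exact h2.symm
  ext i j
  rcases eq_or_ne i j with rfl | hij
  · rw [hdiag i]
    simp
  · rw [hoff j i hij.symm]
    simp [hij]

/-- Scalars act trivially. -/
theorem lmap_scalar (g : (Matrix (Fin (n + 1)) (Fin (n + 1)) k)ˣ) (c : k) (hc : c ≠ 0)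
    (hg : (g : Matrix (Fin (n + 1)) (Fin (n + 1)) k) = Matrix.scalar (Fin (n + 1)) c) : lmap g = 𝟙 _ := by
  classical
  have hX : ∀ i, sub (g : Matrix (Fin (n + 1)) (Fin (n + 1)) k) (X i) = C c * X i := fun i => by
    rw [sub_X, lin, hg]
    simp [Matrix.diagonal_apply, apply_ite C, ite_mul]
  refine hom_ext_charts (R := k) (X : Fin (n + 1) → MvPolynomial (Fin (n + 1)) k) X_mem' adjoin_range_X ?_ ?_ ?_
  · exact (lmap_toSpec g).trans (Category.id_comp _).symm
  · intro i
    refine Opens.ext (Set.ext fun p => ?_)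
    show sub (g : Matrix (Fin (n + 1)) (Fin (n + 1)) k) (X i) ∉
      (show ProjectiveSpectrum (CohB1.polyGrading n k) from p).asHomogeneousIdeal ↔ X i ∉ _
    rw [hX]
    exact not_congr (Ideal.unit_mul_mem_iff_mem _ ((isUnit_iff_ne_zero.mpr hc).map C))
  · intro i j
    rw [awayToSection_mk_one (X_mem' i) (X_mem' j)]
    erw [lmap_ratio g (X_mem' i) (X_mem' j)]
    refine valAt_ext fun x => ?_
    show valAt (ratio _ _) x = valAt (ratio (X_mem' i) (X_mem' j)) ⟨x.1, _⟩
    rw [valAt_coeff, valAt_coeff, Localization.mk_eq_mk_iff, Localization.r_iff_exists]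
    refine ⟨1, ?_⟩
    simp only [OneMemClass.coe_one, one_mul]
    show X i * sub (g : Matrix (Fin (n + 1)) (Fin (n + 1)) k) (X j) =
      sub (g : Matrix (Fin (n + 1)) (Fin (n + 1)) k) (X i) * X j
    rw [hX, hX]
    ring

end Groth.Agent.PGLAut28

end
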