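import Groth.Agent.PGLAut28.Linear
import Groth.Agent.PicPn.Main
import Groth.Agent.ProjConst.Forms
import Groth.Agent.EulerFam.Tau
import Groth.Agent.ProjTwist.Pn.H0
import Groth.Agent.TwistFlat.Pn
import Groth.Agent.ProjMorph.Ample

/-!
# Every automorphism of projective space is linear
-/

set_option autoImplicit false
set_option backward.isDefEq.respectTransparency false
set_option linter.style.haveILetI false
set_option linter.unusedSimpArgs false

universe u

open CategoryTheory AlgebraicGeometry MvPolynomial TopologicalSpace Opposite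
open Groth.Agent.ProjMorph Groth.Agent.ProjTwist Groth.Agent.QCoh Groth.Agent.Props.GenLocus
open Groth.Agent.AmpleLib Groth.Agent.Props.ProjFrame Groth.Agent.Props.GenPull

noncomputable section

namespace Groth.Agent.PGLAut28

variable {k : Type u} [Field k] {n : ℕ}

theorem tensorPow_congr' {X : Scheme.{u}} {L L' : X.Modules} (e : L ≅ L') :
    ∀ d : ℕ, Nonempty (CohB1.tensorPow L d ≅ CohB1.tensorPow L' d)
  | 0 => ⟨Iso.refl _⟩
  | d + 1 => (tensorPow_congr' e d).map fun φ => Groth.Agent.ProjTwist.tensCongr φ e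

theorem pow_twist (d : ℤ) : ∀ e : ℕ,
    Nonempty (CohB1.tensorPow (Twist.twistProjSpace n k d) e ≅ Twist.twistProjSpace n k (d * e))
  | 0 => by
    rw [Nat.cast_zero, mul_zero]
    exact ⟨Groth.Agent.ProjTwist.twistZeroIso (CohB1.polyGrading n k)⟩
  | e + 1 => by
    obtain ⟨φ⟩ := pow_twist d e
    obtain ⟨ψ⟩ := nonempty_twistProjSpace_tensor n k (d * e) d
    exact ⟨Groth.Agent.ProjTwist.tensCongr φ (Iso.refl _) ≪≫ ψ ≪≫
      eqToIso (congrArg (Twist.twistProjSpace n k) (by push_cast; ring))⟩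

theorem subsingleton_sections {X : Scheme.{u}} {M : X.Modules} (h : Subsingleton (Coh.HH X M 0)) :
    Subsingleton Γ(M, ⊤) :=
  haveI := h
  (Sheaf.H.equiv₀ (Coh.toAb M) CategoryTheory.Limits.isTerminalTop).toEquiv.symm.subsingleton

/-- The pullback of `O(1)` by an endomorphism is `O(d)` with `d` nonnegative. -/
theorem exists_nat_twist (hn : 1 ≤ n) (a : CohB1.ProjSpace n k ⟶ CohB1.ProjSpace n k) :
    ∃ d : ℕ, Nonempty ((Scheme.Modules.pullback a).obj (Twist.twistProjSpace n k 1) ≅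
      Twist.twistProjSpace n k (d : ℤ)) := by
  have hinv : PicF.IsInvertible ((Scheme.Modules.pullback a).obj (Twist.twistProjSpace n k 1)) :=
    PicCl.isInvertible_pullback a (Groth.Agent.ProjTwist.isInvertible_twistProjSpace n k 1)
  obtain ⟨d, ⟨φ⟩⟩ := PicPn.exists_iso_twist hinv
  rcases le_or_gt 0 d with hd | hd
  · obtain ⟨m, rfl⟩ := Int.eq_ofNat_of_zero_le hd
    exact ⟨m, ⟨φ⟩⟩
  exfalso
  haveI := subsingleton_sections (ProjTwist.Pn.subsingleton_H0 (n := n) (R := k) hn hd)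
  obtain ⟨x⟩ : Nonempty (CohB1.ProjSpace n k) := ⟨pt (Pi.single 0 1) fun h0 => by simpa using congrFun h0 0⟩
  obtain ⟨i, hi⟩ := Opens.mem_iSup.mp
    ((iSup_basicOpen_gen (R := k) (X : Fin (n + 1) → MvPolynomial (Fin (n + 1)) k) X_mem' adjoin_range_X).ge
      (trivial : a x ∈ (⊤ : (CohB1.ProjSpace n k).Opens)))
  have hM := isInvertible_twist_one (R := k) (X : Fin (n + 1) → MvPolynomial (Fin (n + 1)) k) X_mem' adjoin_range_X
  let σ := ProjUP.pullSec a (Twist.twist (CohB1.polyGrading n k) 1) (gsec (X_mem' i))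
  have hx : x ∈ locus (O := ⊤) (φ.hom.app ⊤ σ) := by
    have h1 : locus (O := ⊤) σ = a ⁻¹ᵁ Proj.basicOpen (CohB1.polyGrading n k) (X i) := by
      rw [← locus_gsec (X : Fin (n + 1) → MvPolynomial (Fin (n + 1)) k) X_mem' adjoin_range_X (X_mem' i), ← locus_pb a hM]
      rfl
    erw [locus_app_iso, h1]
    exact hi
  have hzero : φ.hom.app ⊤ σ = 0 := Subsingleton.elim _ _
  rw [hzero] at hx
  have hg := isGen_locus (O := ⊤) (0 : Γ(Twist.twistProjSpace n k d, ⊤))
  have h01 : (1 : Γ(CohB1.ProjSpace n k, locus (O := ⊤) (0 : Γ(Twist.twistProjSpace n k d, ⊤)))) = 0 :=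
    hg.injective le_rfl (by simp)
  have h2 := congrArg ((CohB1.ProjSpace n k).presheaf.germ _ x hx).hom h01
  rw [map_one, map_zero] at h2
  exact one_ne_zero h2

/-- The pullback of `O(1)` by an automorphism is `O(1)`. -/
theorem exists_iso_one (a : CohB1.ProjSpace n k ≅ CohB1.ProjSpace n k) :
    Nonempty ((Scheme.Modules.pullback a.hom).obj (Twist.twistProjSpace n k 1) ≅
      Twist.twistProjSpace n k 1) := by
  rcases Nat.eq_zero_or_pos n with hn | hn
  · subst hn
    have htop : Proj.basicOpen (CohB1.polyGrading 0 k) (X 0) = ⊤ := by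
      rw [← iSup_basicOpen_gen (R := k) (X : Fin 1 → MvPolynomial (Fin 1) k) X_mem' adjoin_range_X, ciSup_unique]
      rfl
    have h1 := (isGen_frame (R := k) (X_mem' (n := 0) (k := k) 0)).restrict (le_of_eq htop.symm)
    have h2 := (isGen_pb a.hom (isGen_frame (R := k) (X_mem' (n := 0) (k := k) 0))).restrict
      (le_of_eq (by rw [htop]; exact (a.hom.preimage_top).symm) : ⊤ ≤ _)
    obtain ⟨φ₁⟩ := exists_iso_of_gen_top h1
    obtain ⟨φ₂⟩ := exists_iso_of_gen_top h2
    exact ⟨φ₂.symm ≪≫ φ₁⟩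
  obtain ⟨d, ⟨φ⟩⟩ := exists_nat_twist hn a.hom
  obtain ⟨e, ⟨ψ⟩⟩ := exists_nat_twist hn a.inv
  obtain ⟨p⟩ := TwistFlat.nonempty_tensorPow_twist n k e
  obtain ⟨q⟩ := EulerFam.pullback_tensorPow a.hom (Twist.twistProjSpace n k 1) e
  obtain ⟨r⟩ := tensorPow_congr' φ e
  obtain ⟨s⟩ := pow_twist (n := n) (k := k) (d : ℤ) e
  have χ : Twist.twistProjSpace n k 1 ≅ Twist.twistProjSpace n k ((d : ℤ) * e) :=
    ((Scheme.Modules.pullbackId (CohB1.ProjSpace n k)).app (Twist.twistProjSpace n k 1)).symm ≪≫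
      (Scheme.Modules.pullbackCongr a.hom_inv_id.symm).app _ ≪≫
      ((Scheme.Modules.pullbackComp a.hom a.inv).app _).symm ≪≫
      (Scheme.Modules.pullback a.hom).mapIso (ψ ≪≫ p.symm) ≪≫ q ≪≫ r ≪≫ s
  have h := PicPn.degree_unique (n := n) (K := k) hn _ _ χ
  have hde : d * e = 1 := by exact_mod_cast h.symm
  obtain rfl : d = 1 := Nat.eq_one_of_mul_eq_one_right hde
  exact ⟨φ⟩

/-- Every automorphism over `k` is linear. -/
theorem act_surjective : Function.Surjective (act (k := k) (n := n)) := by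
  intro A
  let a : CohB1.ProjSpace n k ≅ CohB1.ProjSpace n k := (Over.forget _).mapIso A
  obtain ⟨τ⟩ := exists_iso_one a
  let t : Fin (n + 1) → MvPolynomial (Fin (n + 1)) k := X
  have ht : ∀ i, t i ∈ CohB1.polyGrading n k 1 := X_mem'
  have hgen : Algebra.adjoin k (Set.range t) = ⊤ := adjoin_range_X
  have hM := isInvertible_twist_one t ht hgen
  choose L hL using fun i => ProjConst.globalOf_surjective n k 1
    (τ.hom.app ⊤ (ProjUP.pullSec a.hom (Twist.twist (CohB1.polyGrading n k) 1) (gsec (ht i))))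
  have hloc : ∀ i, a.hom ⁻¹ᵁ Proj.basicOpen (CohB1.polyGrading n k) (t i) =
      Proj.basicOpen (CohB1.polyGrading n k) (L i : MvPolynomial (Fin (n + 1)) k) := fun i => by
    rw [← locus_gsec t ht hgen (L i).2, ← locus_gsec t ht hgen (ht i), ← locus_pb a.hom hM]
    refine (locus_app_iso τ _).symm.trans ?_
    exact congrArg (fun σ => locus (O := ⊤) σ) (hL i).symm
  -- the matrix of the linear forms
  let g : Matrix (Fin (n + 1)) (Fin (n + 1)) k := fun i j => coeff (Finsupp.single j 1) (L i : MvPolynomial (Fin (n + 1)) k)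
  have hlin : ∀ i, (L i : MvPolynomial (Fin (n + 1)) k) = lin g i := fun i => by
    ext m
    have hLi : (L i : MvPolynomial (Fin (n + 1)) k).IsHomogeneous 1 := (L i).2
    simp only [lin, coeff_sum, coeff_C_mul, coeff_X]
    by_cases hm : ∃ j, m = Finsupp.single j 1
    · obtain ⟨j, rfl⟩ := hm
      rw [Finset.sum_eq_single j (fun l _ hl => by
        rw [if_neg (fun h => hl (Finsupp.single_left_injective one_ne_zero h)), mul_zero])
        (fun h => absurd (Finset.mem_univ j) h), if_pos rfl, mul_one]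
    · rw [Finset.sum_eq_zero fun l _ => by rw [if_neg (fun h => hm ⟨l, h.symm⟩), mul_zero]]
      refine hLi.coeff_eq_zero fun hd => hm ?_
      obtain ⟨j, hj⟩ : m ∈ Set.range (fun a : Fin (n + 1) ↦ Finsupp.single a 1) := by
        rw [Finsupp.range_single_one]
        exact hd
      exact ⟨j, hj.symm⟩
  have hdet : g.det ≠ 0 := fun h0 => by
    obtain ⟨v, hv, hgv⟩ := Matrix.exists_mulVec_eq_zero_iff.mpr h0
    let y : CohB1.ProjSpace n k := pt v hv
    obtain ⟨i, hi⟩ := Opens.mem_iSup.mp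
      ((iSup_basicOpen_gen t ht hgen).ge (trivial : a.hom y ∈ (⊤ : (CohB1.ProjSpace n k).Opens)))
    have hy : y ∈ a.hom ⁻¹ᵁ Proj.basicOpen (CohB1.polyGrading n k) (t i) := hi
    rw [hloc i] at hy
    refine hy ?_
    show line v (L i : MvPolynomial (Fin (n + 1)) k) = 0
    rw [hlin, line_lin, hgv, Pi.zero_apply, map_zero, zero_mul]
  obtain ⟨G, hG⟩ : ∃ G : Matrix.GeneralLinearGroup (Fin (n + 1)) k, (G : Matrix (Fin (n + 1)) (Fin (n + 1)) k) = g :=
    ⟨Matrix.GeneralLinearGroup.mkOfDetNeZero g hdet, rfl⟩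
  have hsub : ∀ i, sub (G : Matrix (Fin (n + 1)) (Fin (n + 1)) k) (t i) = (L i : MvPolynomial (Fin (n + 1)) k) := fun i => by
    rw [hG, hlin]
    exact sub_X g i
  refine ⟨G, Iso.ext (Over.OverMorphism.ext ?_)⟩
  show lmap G = a.hom
  refine hom_ext_charts t ht hgen ((lmap_toSpec G).trans (Over.w A.hom).symm)
    (fun i => ((hloc i).trans (congrArg (Proj.basicOpen (CohB1.polyGrading n k)) (hsub i).symm)).symm) fun i j => ?_
  rw [awayToSection_mk_one (ht i) (ht j)]
  erw [lmap_ratio G (ht i) (ht j)]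
  have hW : Proj.basicOpen (CohB1.polyGrading n k) (sub (G : Matrix (Fin (n + 1)) (Fin (n + 1)) k) (t i)) ≤
      a.hom ⁻¹ᵁ Proj.basicOpen (CohB1.polyGrading n k) (t i) :=
    le_of_eq ((congrArg (Proj.basicOpen (CohB1.polyGrading n k)) (hsub i)).trans (hloc i).symm)
  have hsi : ∀ l, τ.hom.app ⊤ (ProjUP.pullSec a.hom (Twist.twist (CohB1.polyGrading n k) 1) (gsec (ht l))) =
      gsec ((sub (G : Matrix (Fin (n + 1)) (Fin (n + 1)) k)).2 (ht l)) := fun l => by
    rw [← hL l]
    exact congrArg (Twist.globalOf (CohB1.polyGrading n k)) (Subtype.ext (hsub l).symm)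
  refine (isGen_frame ((sub (G : Matrix (Fin (n + 1)) (Fin (n + 1)) k)).2 (ht i))).injective le_rfl ?_
  rw [res_self]
  refine (res_gsec ((sub (G : Matrix (Fin (n + 1)) (Fin (n + 1)) k)).2 (ht i))
    ((sub (G : Matrix (Fin (n + 1)) (Fin (n + 1)) k)).2 (ht j))).symm.trans ?_
  have e1 : frame ((sub (G : Matrix (Fin (n + 1)) (Fin (n + 1)) k)).2 (ht i)) =
      res (Twist.twist (CohB1.polyGrading n k) 1) le_top (gsec ((sub (G : Matrix (Fin (n + 1)) (Fin (n + 1)) k)).2 (ht i))) := by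
    rw [res_gsec, ratio_self, one_smul]
  have hz : ∀ l, res (Twist.twist (CohB1.polyGrading n k) 1) le_top
        (gsec ((sub (G : Matrix (Fin (n + 1)) (Fin (n + 1)) k)).2 (ht l))) =
      τ.hom.app _ (res _ hW (res _ (le_top : a.hom ⁻¹ᵁ Proj.basicOpen (CohB1.polyGrading n k) (t i) ≤ ⊤)
        (ProjUP.pullSec a.hom (Twist.twist (CohB1.polyGrading n k) 1) (gsec (ht l))))) := fun l => by
    rw [res_res]
    refine (congrArg (fun σ => res (Twist.twist (CohB1.polyGrading n k) 1) le_top σ) (hsi l).symm).trans ?_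
    exact (app_res τ.hom _ _).symm
  let P : (CohB1.ProjSpace n k).Modules :=
    (Scheme.Modules.pullback a.hom).obj (Twist.twist (CohB1.polyGrading n k) 1)
  let ψ : P ⟶ Twist.twist (CohB1.polyGrading n k) 1 := τ.hom
  let c := rres hW (a.hom.app _ (ratio (ht i) (ht j)))
  have hco : res P hW (res P (le_top : a.hom ⁻¹ᵁ Proj.basicOpen (CohB1.polyGrading n k) (t i) ≤ ⊤)
        (ProjUP.pullSec a.hom (Twist.twist (CohB1.polyGrading n k) 1) (gsec (ht j)))) =
      c • res P hW (res P (le_top : a.hom ⁻¹ᵁ Proj.basicOpen (CohB1.polyGrading n k) (t i) ≤ ⊤)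
        (ProjUP.pullSec a.hom (Twist.twist (CohB1.polyGrading n k) 1) (gsec (ht i)))) := by
    refine (congrArg (res P hW) ((res_pullSec a.hom (ht i) (ht j)).trans
      (congrArg (fun z => a.hom.app _ (ratio (ht i) (ht j)) • z) (res_pullSec_self a.hom (ht i)).symm))).trans ?_
    exact res_smul P hW _ _
  rw [e1]
  refine (hz j).trans ((congrArg (fun z => ψ.app _ z) hco).trans ?_)
  refine (Scheme.Modules.Hom.app_smul ψ c _).trans ?_
  exact congrArg (fun z => c • z) (hz i).symm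

end Groth.Agent.PGLAut28

end
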